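import Groth.Agent.Cosp51.Seq
import Groth.Agent.EtLimCore.StalkRpush

/-!
# Stalks of higher direct images and cohomology over the strict localisation, with connecting maps
-/

set_option autoImplicit false
set_option linter.style.haveILetI false
set_option maxHeartbeats 800000

universe u

open CategoryTheory CategoryTheory.Limits AlgebraicGeometry Opposite CategoryTheory.Abelian

noncomputable section

namespace Groth.Agent.Cosp51

set_option backward.isDefEq.respectTransparency false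
set_option backward.isDefEq.respectTransparency.types false

open Groth.Agent.EtLimCore
open Groth.Agent.SiteBase (ConnSeq)

instance additive_pull {X Y : Scheme.{u}} (f : X ⟶ Y) : (EtCoh.pull f).Additive :=
  (EtCoh.pullPushAdj f).left_adjoint_additive

instance finColim_pull {X Y : Scheme.{u}} (f : X ⟶ Y) : PreservesFiniteColimits (EtCoh.pull f) :=
  have : PreservesColimitsOfSize.{0, 0} (EtCoh.pull f) := (EtCoh.pullPushAdj f).leftAdjoint_preservesColimits
  PreservesColimitsOfSize.preservesFiniteColimits _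

instance finLim_pull {X Y : Scheme.{u}} (f : X ⟶ Y) : PreservesFiniteLimits (EtCoh.pull f) :=
  EtFound.pull_preservesFiniteLimits f

instance additive_stalk {X : Scheme.{u}} {Ω : Type u} [Field Ω] [IsSepClosed Ω]
    (ξ : Spec (CommRingCat.of Ω) ⟶ X) : (EtCoh.stalk ξ).Additive :=
  Functor.additive_of_preserves_binary_products _

/-- global sections are cohomology in degree zero -/
def secH (X : Scheme.{u}) : EtCore.gsec X ≅ EtCoh.HF X 0 :=
  NatIso.ofComponents (fun F => (Sheaf.H.equiv₀ F (EtCore.topIsTerminal X)).symm.toAddCommGrpIso)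
    (fun {F G} φ => AddCommGrpCat.hom_ext (AddMonoidHom.ext fun x => by
      have h := Sheaf.H.equiv₀_symm_naturality (hT := EtCore.topIsTerminal X) φ x
      exact h.symm))

variable {P X : Scheme.{u}} (f : P ⟶ X) {Ω : Type u} [Field Ω] [IsSepClosed Ω]
  (ξ : Spec (CommRingCat.of Ω) ⟶ X) {L : Cone (nbhdSch ξ)} (σ : L.pt ⟶ X)
  (hσ : ∀ i, L.π.app i ≫ ((nbhdObj ξ).obj i).hom = σ)
  [QuasiCompact f] [QuasiSeparated f] (hL : IsLimit L)

include hσ hL in
/-- the comparison between stalks of higher direct images and cohomology on the strict localisation -/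
theorem exists_cmp :
    ∃ e : ∀ p, (rSeq (EtCoh.push f) (EtCoh.stalk ξ)).F p ⟶ (hSeq (EtCoh.pull (pullback.fst f σ))).F p,
      (∀ (S : ShortComplex (EtCoh.Ab P)) (hS : S.ShortExact) (p : ℕ),
        (rSeq (EtCoh.push f) (EtCoh.stalk ξ)).δ hS p ≫ (e (p + 1)).app S.X₁ =
          (e p).app S.X₃ ≫ (hSeq (EtCoh.pull (pullback.fst f σ))).δ hS p) ∧
      (∀ p F, Function.Bijective ((e p).app F)) ∧
      (∀ F, (EtCoh.stalk ξ).map ((EtCoh.push f).toRightDerivedZero.app F) ≫ (e 0).app F =
        θApp f ξ σ hσ F ≫ (secH (pullback f σ)).hom.app ((EtCoh.pull (pullback.fst f σ)).obj F)) := by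
  let Φ := EtCoh.push f
  let S₁ := rSeq Φ (EtCoh.stalk ξ)
  let S₂ := hSeq (EtCoh.pull (pullback.fst f σ))
  have h1 : S₁.Effaced := rSeq_effaced _ _
  have h2 : S₂.Effaced := hSeq_effaced _ fun I hI n => subsingleton_H_pull_injective f ξ σ hσ hL I n
  haveI : IsIso (stalkθ f ξ σ hσ) := isIso_stalkθ f ξ σ hσ hL
  let e0 : Φ.rightDerived 0 ⋙ EtCoh.stalk ξ ≅ EtCoh.pull (pullback.fst f σ) ⋙ EtCoh.HF (pullback f σ) 0 :=
    Functor.isoWhiskerRight Φ.rightDerivedZeroIsoSelf (EtCoh.stalk ξ) ≪≫ asIso (stalkθ f ξ σ hσ) ≪≫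
      Functor.isoWhiskerLeft (EtCoh.pull (pullback.fst f σ)) (secH (pullback f σ))
  obtain ⟨e, he0, heδ⟩ := ConnSeq.exists_hom (G := S₂) h1 e0.hom
  obtain ⟨d, hd0, hdδ⟩ := ConnSeq.exists_hom (G := S₁) h2 e0.inv
  have k1 : ∀ p, e p ≫ d p = 𝟙 _ :=
    ConnSeq.hom_unique (G := S₁) h1 (fun p => e p ≫ d p) (fun p => 𝟙 _)
      (fun S hS p => by
        rw [NatTrans.comp_app, NatTrans.comp_app, reassoc_of% (heδ S hS p), hdδ S hS p, Category.assoc])
      (fun S hS p => by
        rw [NatTrans.id_app, NatTrans.id_app, Category.id_comp, Category.comp_id])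
      (by rw [he0, hd0]; exact e0.hom_inv_id)
  have k2 : ∀ p, d p ≫ e p = 𝟙 _ :=
    ConnSeq.hom_unique (G := S₂) h2 (fun p => d p ≫ e p) (fun p => 𝟙 _)
      (fun S hS p => by
        rw [NatTrans.comp_app, NatTrans.comp_app, reassoc_of% (hdδ S hS p), heδ S hS p, Category.assoc])
      (fun S hS p => by
        rw [NatTrans.id_app, NatTrans.id_app, Category.id_comp, Category.comp_id])
      (by rw [he0, hd0]; exact e0.inv_hom_id)
  refine ⟨e, heδ, fun p F => ?_, fun F => ?_⟩
  · haveI : IsIso (e p) := ⟨⟨d p, k1 p, k2 p⟩⟩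
    exact (ConcreteCategory.isIso_iff_bijective _).1 inferInstance
  · rw [he0]
    show _ ≫ ((EtCoh.stalk ξ).map (Φ.rightDerivedZeroIsoSelf.hom.app F) ≫ θApp f ξ σ hσ F ≫ _) = _
    rw [← Functor.map_comp_assoc]
    refine (congrArg (fun q => (EtCoh.stalk ξ).map q ≫ _) (Φ.rightDerivedZeroIsoSelf_inv_hom_id_app F)).trans ?_
    rw [CategoryTheory.Functor.map_id, Category.id_comp]
    rfl

end Groth.Agent.Cosp51
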