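import Groth.Agent.EtLimCore.StalkPush
import Groth.Agent.EtFound.FiniteBaseChange
import Groth.Agent.EtFound.PullGerm

/-!
# Sections over a base change, evaluated on a lift
-/

set_option autoImplicit false
set_option linter.style.haveILetI false
set_option maxHeartbeats 800000

universe u

open CategoryTheory CategoryTheory.Limits AlgebraicGeometry Opposite CategoryTheory.Abelian

noncomputable section

namespace Groth.Agent.Cosp51

set_option backward.isDefEq.respectTransparency false
set_option backward.isDefEq.respectTransparency.types false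

open Groth.Agent.EtLimCore

variable {P P' Q : Scheme.{u}} (g' : P' ⟶ P) (t' : Q ⟶ P') {t₀ : Q ⟶ P} (h : t' ≫ g' = t₀) (F : EtCoh.Ab P)

/-- evaluating a pulled back section on a lift -/
theorem secMap_unit (W : P.Etale) (m : Q ⟶ ((EtCoh.bc g').obj W).left) (hm : m ≫ ((EtCoh.bc g').obj W).hom = t')
    (m₀ : Q ⟶ W.left) (hm₀ : m₀ ≫ W.hom = t₀) (e : m ≫ pullback.fst W.hom g' = m₀) :
    ((EtCoh.pullPushAdj g').unit.app F).hom.app (op W) ≫ secMap t' ((EtCoh.pull g').obj F) m hm ≫
        (pullVia t' g' h F).hom.app (op (EtCoh.top Q)) =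
      secMap t₀ F m₀ hm₀ := by
  let can : (EtCoh.bc t').obj ((EtCoh.bc g').obj W) ⟶ (EtCoh.bc t₀).obj W :=
    MorphismProperty.Over.homMk
      (pullback.lift (pullback.fst ((EtCoh.bc g').obj W).hom t' ≫ pullback.fst W.hom g')
        (pullback.snd ((EtCoh.bc g').obj W).hom t')
        (((Category.assoc _ _ _).trans (congrArg (_ ≫ ·) pullback.condition)).trans
          ((Category.assoc _ _ _).symm.trans ((congrArg (· ≫ g') (pullback.condition
            (f := ((EtCoh.bc g').obj W).hom) (g := t'))).trans
            ((Category.assoc _ _ _).trans (congrArg (_ ≫ ·) h))))))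
      (pullback.lift_snd _ _ _)
  have h1 := unit_pullVia t' g' h F W can (pullback.lift_fst _ _ _)
  rw [Adjunction.homEquiv_unit] at h1
  have h2 := (pullVia t' g' h F).hom.naturality (liftTop t' m hm).op
  have h3 : liftTop t' m hm ≫ can = liftTop t₀ m₀ hm₀ := by
    refine MorphismProperty.Over.Hom.ext ?_
    apply pullback.hom_ext (f := W.hom) (g := t₀)
    · show ((liftTop t' m hm).left ≫ can.left) ≫ pullback.fst W.hom t₀ = (liftTop t₀ m₀ hm₀).left ≫ pullback.fst W.hom t₀
      refine ((Category.assoc _ _ _).trans (congrArg (_ ≫ ·) (pullback.lift_fst _ _ _))).trans ?_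
      refine (Category.assoc _ _ _).symm.trans ((congrArg (· ≫ _) (pullback.lift_fst _ _ _)).trans ?_)
      exact e.trans (pullback.lift_fst _ _ _).symm
    · exact (MorphismProperty.Over.w (liftTop t' m hm ≫ can)).trans
        (MorphismProperty.Over.w (liftTop t₀ m₀ hm₀)).symm
  show ((EtCoh.pullPushAdj g').unit.app F).hom.app (op W) ≫
    (((EtCoh.pullPushAdj t').unit.app ((EtCoh.pull g').obj F)).hom.app (op ((EtCoh.bc g').obj W)) ≫
      ((EtCoh.pull t').obj ((EtCoh.pull g').obj F)).obj.map (liftTop t' m hm).op) ≫ _ = _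
  refine (congrArg (_ ≫ ·) ((Category.assoc _ _ _).trans (congrArg (_ ≫ ·) h2))).trans ?_
  refine (congrArg (_ ≫ ·) (Category.assoc _ _ _).symm).trans ?_
  refine (Category.assoc _ _ _).symm.trans ?_
  refine (congrArg (· ≫ _) h1).trans ?_
  refine (Category.assoc _ _ _).trans (congrArg (_ ≫ ·) ?_)
  rw [← h3]
  exact (Functor.map_comp _ _ _).symm

end Groth.Agent.Cosp51
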