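import Groth.Agent.SiteBase.UnivDelta
import Groth.Agent.SiteBase.Horseshoe
import Groth.Agent.EtBCA.Hpull
import Groth.Agent.EtLimCore.PullThen
import Mathlib.Algebra.Homology.ShortComplex.Ab

/-!
# Two connected sequences: exact functor after derived functors, and cohomology after inverse image
-/

set_option autoImplicit false
set_option linter.style.haveILetI false

universe w v u v' u'

open CategoryTheory CategoryTheory.Limits AlgebraicGeometry CategoryTheory.Abelian

noncomputable section

namespace Groth.Agent.Cosp51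

set_option backward.isDefEq.respectTransparency.types false

open Groth.Agent.SiteBase (ConnSeq)

section Derived

variable {A : Type u} [Category.{v} A] [Abelian A] [EnoughInjectives A]
  {B : Type u'} [Category.{v'} B] [Abelian B]
  (Φ : A ⥤ B) [Φ.Additive] [PreservesFiniteLimits Φ]
  (G : B ⥤ AddCommGrpCat.{w}) [G.Additive] [PreservesFiniteLimits G] [PreservesFiniteColimits G]

/-- an exact functor applied to the derived functors -/
def rSeq : ConnSeq.{w} A where
  F p := Φ.rightDerived p ⋙ G
  δ {S} hS p := G.map ((SESResLib.derivedLES Φ).δ S hS p (p + 1) rfl)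
  δ_natural {S T} hS hT φ p := by
    show G.map _ ≫ G.map _ = G.map _ ≫ G.map _
    rw [← G.map_comp, ← G.map_comp]
    exact congrArg G.map ((SESResLib.derivedLES Φ).δ_natural hS hT φ p (p + 1) rfl).symm
  map_comp_δ {S} hS p := by
    show G.map _ ≫ G.map _ = 0
    rw [← G.map_comp]
    exact (congrArg G.map ((SESResLib.derivedLES Φ).comp_δ S hS p (p + 1) rfl)).trans (G.map_zero _ _)

omit [PreservesFiniteLimits Φ] in
theorem rSeq_effaced : (rSeq Φ G).Effaced := by
  intro S hS hI p
  let L := SESResLib.derivedLES Φ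
  have hz : IsZero ((Φ.rightDerived (p + 1)).obj S.X₂) := Φ.isZero_rightDerived_obj_injective_succ p S.X₂
  have he : Epi (L.δ S hS p (p + 1) rfl) :=
    (L.exact₁ S hS p (p + 1) rfl).epi_f (hz.eq_of_tgt _ _)
  have he' : Epi (G.map (L.δ S hS p (p + 1) rfl)) := G.map_epi _
  refine ⟨(AddCommGrpCat.epi_iff_surjective _).1 he', fun x hx => ?_⟩
  exact (ShortComplex.ab_exact_iff _).1 ((L.exact₃ S hS p (p + 1) rfl).map G) x hx

end Derived

section Coh

variable {A : Type u} [Category.{v} A] [Abelian A] {Q : Scheme.{w}} (E : A ⥤ EtCoh.Ab Q) [E.Additive]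
  [PreservesFiniteLimits E] [PreservesFiniteColimits E]

/-- cohomology after an exact functor -/
def hSeq : ConnSeq.{w + 1} A where
  F p := E ⋙ EtCoh.HF Q p
  δ {S} hS p := AddCommGrpCat.ofHom
    { toFun := fun x : EtCoh.H Q (E.obj S.X₃) p => x.comp (hS.map_of_exact E).extClass rfl
      map_zero' := Ext.zero_comp _ _ _ _ _
      map_add' := fun a b => Ext.add_comp _ _ _ _ }
  δ_natural {S T} hS hT φ p := by
    ext x
    show (x.comp (hS.map_of_exact E).extClass rfl).comp (Ext.mk₀ (E.map φ.τ₁)) (add_zero _) =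
      (x.comp (Ext.mk₀ (E.map φ.τ₃)) (add_zero _)).comp (hT.map_of_exact E).extClass rfl
    rw [Ext.comp_assoc_of_third_deg_zero, Ext.comp_assoc_of_second_deg_zero]
    exact congrArg (fun t => Ext.comp x t rfl)
      (ShortComplex.ShortExact.extClass_naturality (hS.map_of_exact E) (hT.map_of_exact E)
        (E.mapShortComplex.map φ))
  map_comp_δ {S} hS p := by
    ext x
    show ((x : EtCoh.H Q (E.obj S.X₂) p).comp (Ext.mk₀ (E.map S.g)) (add_zero _)).comp
      (hS.map_of_exact E).extClass rfl = 0
    rw [Ext.comp_assoc_of_second_deg_zero]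
    exact (congrArg (fun t => Ext.comp x t rfl) (hS.map_of_exact E).comp_extClass).trans (Ext.comp_zero _ _ _ _ _)

theorem hSeq_effaced (hE : ∀ I : A, Injective I → ∀ n, Subsingleton (EtCoh.H Q (E.obj I) (n + 1))) :
    (hSeq E).Effaced := by
  intro S hS hI p
  refine ⟨fun x => ?_, fun x hx => ?_⟩
  · have := hE S.X₂ hI p
    obtain ⟨y, hy⟩ := Ext.covariant_sequence_exact₁ _ (hS.map_of_exact E) x
      (Subsingleton.elim (α := EtCoh.H Q (E.obj S.X₂) (p + 1)) _ _) (n₀ := p) rfl
    exact ⟨y, hy⟩
  · obtain ⟨y, hy⟩ := Ext.covariant_sequence_exact₃ _ (hS.map_of_exact E) x rfl hx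
    exact ⟨y, hy⟩

end Coh

end Groth.Agent.Cosp51
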